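import Cfsg.Agent.Omega.NO3b.K0.Count

/-!
# MIXED K0 (helper264 #17875 (2), helper455 #18325 (2)), part 1: one panel

`Pan V F T X L Q0` : the structure `Base` of THEOREM K0 without `nonloc`.
-/

set_option autoImplicit false

namespace Cfsg.Agent.Omega.NO3b.K0.Mix

open Subgroup Cfsg Cfsg.Agent.ZN Cfsg.Agent.ZN.ChoiceBase Cfsg.Agent.ZN.ChoiceSit
open Cfsg.Agent.MinSimple.MinParabolic (IsMinPar)
open Cfsg.Agent.MinSimple.VModule (oddGen oddGen_le mem_oddGen le_normalizer_oddGen oddGen_le_of_sup)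
open Cfsg.Agent.Omega.NO3b.EZero
open scoped commutatorElement

universe u

variable {G : Type u} [Group G]

/-- A panel `X` over the line `V` (`Base` without `nonloc`). -/
structure Pan (V F T X L Q0 : Subgroup G) : Prop where
  sq : ∀ v ∈ V, v ^ 2 = 1
  comm : V ≤ centralizer (V : Set G)
  nff : NotFF V
  F_le : F ≤ V
  F_ne : F ≠ V
  F_ne_bot : F ≠ ⊥
  X_le : X ≤ centralizer (F : Set G)
  syl : Syl T X
  mp : IsMinPar T X
  nle : ¬ X ≤ normalizer (V : Set G)
  T_le : T ≤ L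
  L_le : L ≤ normalizer (V : Set G)
  Q0_le : Q0 ≤ T
  L_Q0 : L ≤ normalizer (Q0 : Set G)
  Q0_cent : Q0 ≤ centralizer (V : Set G)
  le_Q0 : ∀ R : Subgroup G, IsPGroup 2 R → R ≤ L → R ≤ centralizer (V : Set G) → R ≤ Q0
  V_le : V ≤ Q0
  line : ∀ x ∈ X, x ∉ normalizer (V : Set G) → V ⊓ cj x V = F
  ti : ∀ g : G, V ⊓ cj g V ≠ ⊥ → V ≤ centralizer ((cj g V : Subgroup G) : Set G)

namespace Pan

variable {V F T X L Q0 : Subgroup G} (h : Pan V F T X L Q0)
include h

theorem T_norm : T ≤ normalizer (V : Set G) := h.T_le.trans h.L_le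

theorem isPGroup_T : IsPGroup 2 T := h.syl.2.1

theorem T_le_X : T ≤ X := h.syl.1

theorem V_le_X : V ≤ X := h.V_le.trans (h.Q0_le.trans h.T_le_X)

theorem Q0_X : Q0 ≤ X := h.Q0_le.trans h.T_le_X

theorem cj_F {x : G} (hx : x ∈ X) : cj x F = F :=
  cj_eq_of_mem_normalizer (centralizer_le_normalizer _ (h.X_le hx))

theorem F_le_line {x : G} (hx : x ∈ X) : F ≤ cj x V := by
  have h1 := cj_mono x h.F_le
  rwa [h.cj_F hx] at h1

theorem cj_L {l : G} (hl : l ∈ L) : cj l V = V := cj_of_le h.L_le hl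

theorem cj_Q0 {l : G} (hl : l ∈ L) : cj l Q0 = Q0 := cj_of_le h.L_Q0 hl

theorem ti' {a b : G} (hD : cj a V ⊓ cj b V ≠ ⊥) : cj a V ≤ centralizer ((cj b V : Subgroup G) : Set G) := by
  have h1 := h.ti (a⁻¹ * b) (by
    intro h0
    apply hD
    have h1 := congrArg (cj a) h0
    rw [cj_inf, cj_cj, mul_inv_cancel_left] at h1
    rw [h1, cj_bot'])
  have h2 := cj_cent (g := a) h1
  rwa [cj_cj, mul_inv_cancel_left] at h2

/-- `V^x ∩ V^y = F` -/
theorem line' {x y : G} (hx : x ∈ X) (hy : y ∈ X) (hne : cj x V ≠ cj y V) : cj x V ⊓ cj y V = F := by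
  have h1 := h.line (x⁻¹ * y) (mul_mem (inv_mem hx) hy) (fun h0 => hne (by
    have h2 := congrArg (cj x) (mem_normalizer_iff_cj.1 h0)
    rw [cj_cj, mul_inv_cancel_left] at h2
    exact h2.symm))
  have h2 := congrArg (cj x) h1
  rw [cj_inf, cj_cj, mul_inv_cancel_left, h.cj_F hx] at h2
  exact h2

theorem lines_comm {x y : G} (hx : x ∈ X) (hy : y ∈ X) :
    cj x V ≤ centralizer ((cj y V : Subgroup G) : Set G) :=
  h.ti' fun h0 => h.F_ne_bot (le_bot_iff.1 ((le_inf (h.F_le_line hx) (h.F_le_line hy)).trans h0.le))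

theorem U_comm : cl V X ≤ centralizer (cl V X : Set G) :=
  cl_le fun _ hx => cent_symm (cl_le fun _ hy => h.lines_comm hy hx)

theorem cj_sq (g : G) : ∀ v ∈ cj g V, v ^ 2 = 1 := by
  intro v hv
  have h1 := h.sq _ (mem_cj.1 hv)
  have e : v ^ 2 = g * (g⁻¹ * v * g) ^ 2 * g⁻¹ := by rw [pow_two, pow_two]; group
  rw [e, h1]; group

theorem U_sq : ∀ u ∈ cl V X, u ^ 2 = 1 :=
  sq_of_comm h.U_comm (fun i : X => cj_le_cl i.2) le_rfl fun i => h.cj_sq i

theorem isPGroup_U : IsPGroup 2 (cl V X) := fun x => ⟨1, Subtype.ext (by simpa using h.U_sq x x.2)⟩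

theorem isPGroup_V : IsPGroup 2 V := h.isPGroup_U.to_le (le_cl V X)

theorem U_le_X : cl V X ≤ X := cl_le fun x hx => by
  have h1 := cj_mono x h.V_le_X
  rwa [cj_self hx] at h1

variable [Finite G]

theorem U_le_o2 : cl V X ≤ o2 X := ChoiceSit.le_o2 h.isPGroup_U h.U_le_X (le_normalizer_cl V X)

theorem o2_le_T : o2 X ≤ T := o2_le_syl h.syl

omit h in
theorem isPGroup_o2' : IsPGroup 2 (o2 X) := ChoiceSit.isPGroup_o2 X

theorem o2_norm_line {x : G} (hx : x ∈ X) : o2 X ≤ normalizer ((cj x V : Subgroup G) : Set G) := by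
  have h1 := cj_norm (g := x) (h.o2_le_T.trans h.T_norm)
  rwa [cj_of_le (ChoiceSit.le_normalizer_o2 X) hx] at h1

/-- **(MIN)** -/
theorem min_or {K : Subgroup G} (hK : K ≤ X) (hKn : X ≤ normalizer (K : Set G)) :
    oddGen X ≤ K ∨ T ⊓ K ≤ o2 X := by
  have : Fact (Nat.Prime 2) := ⟨Nat.prime_two⟩
  rcases h.mp.sup_eq_or_inf_le h.isPGroup_T (syl_not_dvd h.syl) hK hKn with h1 | h1
  · exact Or.inl (oddGen_le_of_sup hKn h1.ge h.T_le_X hK h.isPGroup_T)
  · exact Or.inr h1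

theorem sup_T : oddGen X ⊔ T = X := oddGen_sup_syl h.syl

theorem oddGen_nle : ¬ oddGen X ≤ normalizer (V : Set G) := by
  intro h0
  apply h.nle
  rw [← h.sup_T]
  exact sup_le h0 h.T_norm

theorem inf_cent_oddGen : V ⊓ centralizer (oddGen X : Set G) = F := by
  apply le_antisymm
  · have h1 := h.oddGen_nle
    rw [SetLike.not_le_iff_exists] at h1
    obtain ⟨x, hx, hxV⟩ := h1
    rw [← h.line x (oddGen_le X hx) hxV]
    refine le_inf inf_le_left ?_
    intro v hv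
    have h2 := mem_centralizer_iff.1 hv.2 x hx
    rw [mem_cj, mul_assoc, ← h2, inv_mul_cancel_left]
    exact hv.1
  · exact le_inf h.F_le ((cent_symm h.X_le).trans (centralizer_le (oddGen_le X)))

/-- 2-subgroups of `X` which centralise an `X`-invariant subgroup not centralised by `O²(X)` lie in `O₂(X)` -/
theorem le_o2_of_cent {Y R : Subgroup G} (hY : X ≤ normalizer (Y : Set G))
    (hE : ¬ Y ≤ centralizer (oddGen X : Set G)) (hR : IsPGroup 2 R) (hRX : R ≤ X)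
    (hRY : R ≤ centralizer (Y : Set G)) : R ≤ o2 X := by
  have h1 := le_normalizer_inf_cent hY
  rcases h.min_or inf_le_left h1 with h2 | h2
  · exact absurd (cent_symm (h2.trans inf_le_right)) hE
  · exact le_o2_of_inf h.syl h1 h2 hR hRX (le_inf hRX hRY)

theorem U_not_cent : ¬ cl V X ≤ centralizer (oddGen X : Set G) := by
  intro h0
  apply h.F_ne
  rw [← h.inf_cent_oddGen]
  exact inf_eq_left.2 ((le_cl V X).trans h0)

theorem le_o2_of_cent_U {R : Subgroup G} (hR : IsPGroup 2 R) (hRX : R ≤ X)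
    (hRU : R ≤ centralizer (cl V X : Set G)) : R ≤ o2 X :=
  h.le_o2_of_cent (le_normalizer_cl V X) h.U_not_cent hR hRX hRU

end Pan

end Cfsg.Agent.Omega.NO3b.K0.Mix
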