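import Cfsg.Agent.Omega.NO3b.K0.Mix.Pan
import Cfsg.Agent.Omega.NO3b.K0.One

/-!
# One panel with one noncentral chief factor (helper455 #18325 (3)): `[U, Q] ≤ F` and duality

`E = O²(X)`, `U₀ = [U, E]`.  `One V X` : proper `X`-invariant subgroups of `U₀` are centralised by `E`.

* `Pan.comm_Q` : `[U, Q] ≤ F`;
* `Pan.dual` : `K` normal in `X`, `K ≤ Q`, `[U, K] ≤ F` ⟹ `[U₀, K] = 1`.
-/

set_option autoImplicit false

namespace Cfsg.Agent.Omega.NO3b.K0.Mix

open Subgroup Cfsg Cfsg.Agent.ZN Cfsg.Agent.ZN.ChoiceBase Cfsg.Agent.ZN.ChoiceSit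
open Cfsg.Agent.MinSimple.MinParabolic (IsMinPar)
open Cfsg.Agent.MinSimple.VModule (oddGen oddGen_le mem_oddGen le_normalizer_oddGen oddGen_le_of_sup)
open Cfsg.Agent.Omega.NO3b.EZero
open Cfsg.Agent.Omega.NO3S.NotFF (commutator_le_of_odd le_centralizer_of_commutator commutator_commutator_eq
  normalizer_commutator le_normalizer_bot)
open Cfsg.Agent.Omega.NO3b.Dual (Dat)
open Cfsg.Agent.Omega.NO3b.CTwo (Sit)
open Cfsg.Agent.Omega.NO3b.CTwo.Sit (rr)
open Cfsg.Agent.Omega.NO3b.K0.Base (U0_le X_norm_U0)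
open scoped commutatorElement

universe u

variable {G : Type u} [Group G]

/-- one noncentral chief factor in `⟨V^X⟩` -/
def One (V X : Subgroup G) : Prop :=
  ∀ N : Subgroup G, N ≤ ⁅cl V X, oddGen X⁆ → X ≤ normalizer (N : Set G) → N ≠ ⁅cl V X, oddGen X⁆ →
    N ≤ centralizer (oddGen X : Set G)

theorem One.of {V X : Subgroup G} (h : ∀ N : Subgroup G, N ≤ cl V X → X ≤ normalizer (N : Set G) →
    ⁅cl V X, oddGen X⁆ ≤ N ∨ N ≤ centralizer (oddGen X : Set G)) : One V X := by
  intro N hN hXN hne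
  rcases h N (hN.trans (U0_le)) hXN with h1 | h1
  · exact absurd (le_antisymm hN h1) hne
  · exact h1

namespace Pan

variable {V F T X L Q0 : Subgroup G} (h : Pan V F T X L Q0)
include h

variable [Finite G]

theorem U0_comm : (⁅⁅cl V X, oddGen X⁆, oddGen X⁆ : Subgroup G) = ⁅cl V X, oddGen X⁆ :=
  commutator_commutator_eq (oddGen_oddGen X) h.isPGroup_U ((oddGen_le X).trans (le_normalizer_cl V X))
    (h.U_le_X.trans (le_normalizer_oddGen X))

omit [Finite G] in
/-- `F ≤ U` -/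
theorem F_le_U : F ≤ cl V X := h.F_le.trans (le_cl V X)

omit [Finite G] in
theorem F_cent : F ≤ centralizer (oddGen X : Set G) := (cent_symm h.X_le).trans (centralizer_le (oddGen_le X))

/-- an `X`-invariant subgroup of `U` is centralised by `O²(X)` or contains `U₀` -/
theorem one' (hX : One V X) {K : Subgroup G} (hK : K ≤ cl V X) (hXK : X ≤ normalizer (K : Set G)) :
    K ≤ centralizer (oddGen X : Set G) ∨ ⁅cl V X, oddGen X⁆ ≤ K := by
  by_cases h1 : K ⊓ ⁅cl V X, oddGen X⁆ = ⁅cl V X, oddGen X⁆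
  · exact Or.inr (inf_eq_right.1 h1)
  · left
    have h2 := hX _ inf_le_right (norm_inf hXK X_norm_U0) h1
    refine le_centralizer_of_commutator (oddGen_oddGen X) (h.isPGroup_U.to_le hK)
      ((oddGen_le X).trans hXK) (le_trans (le_inf ?_ ?_) h2)
    · exact CTwo.Sit.commutator_le_of_norm ((oddGen_le X).trans hXK)
    · exact commutator_mono hK le_rfl

/-- `W ≤ K` if `V ≤ K` and `K` is normalised by `O²(X)` -/
theorem cl_le_of {K : Subgroup G} (hVK : V ≤ K) (hK : oddGen X ≤ normalizer (K : Set G)) : cl V X ≤ K := by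
  refine cl_le fun x hx => ?_
  rw [← h.sup_T, sup_comm] at hx
  obtain ⟨t, ht, e, he, rfl⟩ := CTwo.mem_sup_of_le_norm (h.T_le_X.trans (le_normalizer_oddGen X)) hx
  have e1 : t * e = (t * e * t⁻¹) * t := by group
  have h1 : t * e * t⁻¹ ∈ oddGen X := conj_mem' (h.T_le_X.trans (le_normalizer_oddGen X)) ht he
  rw [e1, ← cj_cj, cj_of_le h.T_norm ht]
  have h2 := cj_mono (t * e * t⁻¹) hVK
  rwa [cj_of_le hK h1] at h2

theorem sit (hX : One V X) : Sit (oddGen X) T (o2 X) V (cl V X) where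
  sq w hw := by have := h.U_sq w hw; rwa [pow_two] at this
  two := h.isPGroup_T
  QS := h.o2_le_T
  VW := le_cl V X
  SV := h.T_norm
  EW := (oddGen_le X).trans (le_normalizer_cl V X)
  SW := h.T_le_X.trans (le_normalizer_cl V X)
  EQ := (oddGen_le X).trans (ChoiceSit.le_normalizer_o2 X)
  SQ := h.T_le_X.trans (ChoiceSit.le_normalizer_o2 X)
  SE := h.T_le_X.trans (le_normalizer_oddGen X)
  gen K h1 h2 := h.cl_le_of h1 h2
  nV := h.oddGen_nle
  OO := (commutator_commutator_eq (oddGen_oddGen X) (ChoiceSit.isPGroup_o2 X)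
    ((oddGen_le X).trans (ChoiceSit.le_normalizer_o2 X))
    ((ChoiceSit.o2_le X).trans (le_normalizer_oddGen X))).ge
  one K h1 h2 h3 := by
    have h4 : X ≤ normalizer (K : Set G) := by rw [← h.sup_T]; exact sup_le h2 h3
    rcases h.one' hX h1 h4 with h5 | h5
    · exact Or.inl fun k hk e he => mem_centralizer_iff.1 (h5 hk) e he
    · exact Or.inr h5

/-- **Step 3'**: `[U, Q] ≤ F`. -/
theorem comm_Q (hX : One V X) {u q : G} (hu : u ∈ cl V X) (hq : q ∈ o2 X) : ⁅u, q⁆ ∈ F := by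
  have h1 := (h.sit hX).commutator_Q_le
  have hQV : ∀ v ∈ V, ∀ q ∈ o2 X, ⁅v, q⁆ ∈ F := by
    intro v hv q hq
    rw [← h.inf_cent_oddGen]
    refine ⟨?_, (h1 (commutator_mem_commutator (le_cl V X hv) hq)).2⟩
    have e1 : ⁅v, q⁆ = v * (q * v⁻¹ * q⁻¹) := by simp only [commutatorElement_def]; group
    rw [e1]
    exact V.mul_mem hv (conj_mem' (h.o2_le_T.trans h.T_norm) hq (V.inv_mem hv))
  let K : Subgroup G :=
    { carrier := {u | u ∈ cl V X ∧ ∀ q ∈ o2 X, ⁅u, q⁆ ∈ F}
      one_mem' := ⟨one_mem _, fun q _ => by rw [commutatorElement_one_left]; exact one_mem _⟩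
      mul_mem' := by
        rintro a b ⟨ha, ha'⟩ ⟨hb, hb'⟩
        refine ⟨mul_mem ha hb, fun q hq => ?_⟩
        have e1 : ⁅a * b, q⁆ = (a * ⁅b, q⁆ * a⁻¹) * ⁅a, q⁆ := by
          simp only [commutatorElement_def]; group
        have h1 := mem_centralizer_iff.1 (h.X_le (h.U_le_X ha)) _ (hb' q hq)
        rw [e1, ← h1, mul_inv_cancel_right]
        exact mul_mem (hb' q hq) (ha' q hq)
      inv_mem' := by
        rintro a ⟨ha, ha'⟩
        have e1 : a⁻¹ = a := inv_eq_of_mul_eq_one_left (by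
          have := h.U_sq a ha
          rwa [pow_two] at this)
        rw [e1]
        exact ⟨ha, ha'⟩ }
  have key : cl V X ≤ K := by
    refine h.cl_le_of (fun v hv => ⟨le_cl V X hv, hQV v hv⟩) ?_
    refine Dual.le_norm fun e he k hk => ?_
    have heX := oddGen_le X he
    refine ⟨conj_mem' (le_normalizer_cl V X) heX hk.1, fun q hq => ?_⟩
    have h2 := hk.2 (e⁻¹ * q * e) (by
      have := conj_mem' (ChoiceSit.le_normalizer_o2 X) (inv_mem heX) hq
      rwa [inv_inv] at this)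
    have h3 := mem_centralizer_iff.1 (h.X_le heX) _ h2
    have e1 : ⁅e * k * e⁻¹, q⁆ = e * ⁅k, e⁻¹ * q * e⁆ * e⁻¹ := by
      simp only [commutatorElement_def]; group
    rw [e1, ← h3, mul_inv_cancel_right]
    exact h2
  exact (key hu).2 q hq

/-- **Step 4, DUALITY**. -/
theorem dual (hX : One V X) {K : Subgroup G} (hKQ : K ≤ o2 X) (hXK : X ≤ normalizer (K : Set G))
    (hK : ∀ u ∈ cl V X, ∀ k ∈ K, ⁅u, k⁆ ∈ F) : (⁅⁅cl V X, oddGen X⁆, K⁆ : Subgroup G) = ⊥ := by
  by_contra hne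
  have hK2 : IsPGroup 2 K := (ChoiceSit.isPGroup_o2 X).to_le hKQ
  have hKX : K ≤ X := hKQ.trans (ChoiceSit.o2_le X)
  have hOK : (⁅K, oddGen X⁆ : Subgroup G) ≤ K :=
    CTwo.Sit.commutator_le_of_norm ((oddGen_le X).trans hXK)
  have hXO : X ≤ normalizer ((⁅K, oddGen X⁆ : Subgroup G) : Set G) :=
    normalizer_commutator hXK (le_normalizer_oddGen X)
  have hFE : ∀ A : Subgroup G, A ≤ F → (⁅A, oddGen X⁆ : Subgroup G) = ⊥ := fun A hA =>
    commutator_eq_bot_iff_le_centralizer.2 (hA.trans h.F_cent)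
  have hUK : (⁅cl V X, K⁆ : Subgroup G) ≤ F := (commutator_le).2 hK
  -- `[K, E]` centralises `C_U(E)`
  have hrr : (⁅⁅K, oddGen X⁆, rr (oddGen X) (cl V X)⁆ : Subgroup G) = ⊥ := by
    refine commutator_commutator_eq_bot_of_rotate ?_ ?_
    · have h1 : (⁅oddGen X, rr (oddGen X) (cl V X)⁆ : Subgroup G) = ⊥ := by
        rw [commutator_comm, commutator_eq_bot_iff_le_centralizer]
        exact inf_le_right
      rw [h1, commutator_bot_left]
    · exact hFE _ ((commutator_mono inf_le_left le_rfl).trans hUK)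
  have hdat : Dat (oddGen X) T ⁅K, oddGen X⁆ (cl V X) (rr (oddGen X) (cl V X)) := by
    have s := h.sit hX
    refine { sq := s.sq, le := Sit.rr_le, two := h.isPGroup_T, rH := fun r hr x hx => (hx.2 r hr), oH := ?_,
             rX := s.EW, sX := s.SW, rO := (oddGen_le X).trans hXO, sO := h.T_le_X.trans hXO,
             sH := s.S_norm_rr, comm := ?_, irr := ?_, OO := ?_, ne := ?_ }
    · intro o ho x hx
      rw [commutator_eq_bot_iff_le_centralizer] at hrr
      exact (hrr ho x hx).symm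
    · intro x hx o ho
      exact ⟨h.F_le_U (hK x hx o (hOK ho)), h.F_cent (hK x hx o (hOK ho))⟩
    · intro Y hY1 hY2 hEY hSY
      rcases s.one Y hY2 hEY hSY with h1 | h1
      · left
        exact le_antisymm (fun y hy => ⟨hY2 hy, fun e he => h1 y hy e he⟩) hY1
      · exact Or.inr h1
    · exact (commutator_commutator_eq (oddGen_oddGen X) hK2 ((oddGen_le X).trans hXK)
        (hKX.trans (le_normalizer_oddGen X))).ge
    · by_contra hc
      push Not at hc
      apply hne
      have h1 : (⁅⁅K, oddGen X⁆, cl V X⁆ : Subgroup G) = ⊥ := by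
        rw [commutator_comm, commutator_eq_bot_iff_le_centralizer]
        exact fun x hx o ho => (hc x hx o ho).symm
      rw [commutator_comm K] at h1
      refine commutator_commutator_eq_bot_of_rotate (H₁ := cl V X) (H₂ := oddGen X) (H₃ := K) h1 ?_
      rw [commutator_comm K]
      exact hFE _ hUK
  -- numerical contradiction
  have h1 := hdat.relIndex_le (le_cl V X)
  have h2 : (rr (oddGen X) (cl V X)).relIndex V = (centralizer ((⁅K, oddGen X⁆ : Subgroup G) : Set G)).relIndex V := by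
    rw [← inf_relIndex_right, ← inf_relIndex_right (centralizer _)]
    congr 1
    apply le_antisymm
    · intro x hx
      have h2 : x ∈ centralizer ((⁅K, oddGen X⁆ : Subgroup G) : Set G) := by
        rw [mem_centralizer_iff]
        exact fun o ho => (hdat.oH o ho x hx.1)
      exact ⟨h2, hx.2⟩
    · refine fun x hx => ⟨hdat.mem_of_comm (le_cl V X hx.2) fun o ho => ?_, hx.2⟩
      exact (mem_centralizer_iff.1 hx.1 o ho).symm
  have hOV : (⁅K, oddGen X⁆ : Subgroup G) ≤ normalizer (V : Set G) :=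
    hOK.trans (hKQ.trans (h.o2_le_T.trans h.T_norm))
  have h3 := quad h.sq h.comm hOV (fun v hv o ho => by
    have h4 := hK v⁻¹ (inv_mem (le_cl V X hv)) o (hOK ho)
    have e1 : ⁅v⁻¹, o⁆ = v⁻¹ * (o * v * o⁻¹) := by simp only [commutatorElement_def]; group
    rw [e1] at h4
    rw [mem_centralizer_iff]
    exact fun o' ho' => hdat.oH o' ho' _ ⟨h.F_le_U h4, h.F_cent h4⟩)
  have h4 := h.nff ⁅K, oddGen X⁆ (hK2.to_le hOK) hOV h3.1 h3.2 (by
    intro h0
    apply h.F_ne
    rw [← h.inf_cent_oddGen]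
    refine inf_eq_left.2 fun v hv => ?_
    have h5 := hdat.mem_of_comm (le_cl V X hv) fun o ho => (mem_centralizer_iff.1 (h0 ho) v hv)
    exact h5.2)
  omega

end Pan

end Cfsg.Agent.Omega.NO3b.K0.Mix
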