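import Cfsg.Agent.Omega.NO3b.K0.Mix.Main

/-!
# MIXED K0, the MUTUAL PAIR (K0P) of helper235 #20914

`Mut.absurd` / `k0p` / `k0p_cj` : two panels `p = (F,T,X)` and `q = (F',T',X')^g` over conjugate lines, both with
NoOver, LEMMA SM and two noncentral factors in `U = ⟨V^X⟩`: if `U_p ≤ X_q` and `U_q ≤ X_p` then `[U_p,U_q] = 1`.
(No flag, no `nonloc`, nothing about `Q0`: the second half of `Mix/Main.lean` with `Q0` replaced by `X`.)
-/

set_option autoImplicit false

namespace Cfsg.Agent.Omega.NO3b.K0.Mix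

open Subgroup Cfsg Cfsg.Agent.ZN Cfsg.Agent.ZN.ChoiceBase Cfsg.Agent.ZN.ChoiceSit
open Cfsg.Agent.MinSimple.MinParabolic (IsMinPar)
open Cfsg.Agent.MinSimple.VModule (oddGen oddGen_le mem_oddGen le_normalizer_oddGen oddGen_le_of_sup)
open Cfsg.Agent.Omega.NO3b.EZero
open scoped commutatorElement

universe u

variable {G : Type u} [Group G]

/-- a mutual pair: the points `X` and `X'^g` -/
structure Mut (V X X' : Subgroup G) (g : G) : Prop where
  ncomm : ¬ cl V X ≤ centralizer ((cj g (cl V X') : Subgroup G) : Set G)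
  le_cj_X : cl V X ≤ cj g X'
  le_X : cj g (cl V X') ≤ X

theorem Mut.inv {V X X' : Subgroup G} {g : G} (c : Mut V X X' g) : Mut V X' X g⁻¹ := by
  refine ⟨fun h0 => c.ncomm ?_, ?_, ?_⟩
  · have h1 := cj_cent (g := g) h0
    rw [cj_cj_inv] at h1
    exact cent_symm h1
  · rw [← cj_le_iff]; exact c.le_X
  · rw [cj_le_iff, inv_inv]; exact c.le_cj_X

namespace Mut

variable {V F T X F' T' X' L Q0 L' Q0' : Subgroup G} {g : G} (c : Mut V X X' g)
  (h : Pan V F T X L Q0) (h' : Pan V F' T' X' L' Q0')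
include c

/-- `U` normalises `U'^g` -/
theorem U_norm : cl V X ≤ normalizer ((cj g (cl V X') : Subgroup G) : Set G) :=
  c.le_cj_X.trans (cj_norm (le_normalizer_cl V X'))

/-- a line `V^x` either commutes with `U'^g` or is not normalised by it -/
theorem norm (hs : SM V X') {x : G} (hx : x ∈ X)
    (hn : ¬ cj x V ≤ centralizer ((cj g (cl V X') : Subgroup G) : Set G)) :
    ¬ cj g (cl V X') ≤ normalizer ((cj x V : Subgroup G) : Set G) := by
  intro h0
  apply hn
  have h1 := hs (g⁻¹ * x) (by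
    rw [← cj_cj, cj_le_iff, inv_inv]
    exact (cj_le_cl hx).trans (c.le_cj_X)) (by
    have h2 := cj_norm (g := g⁻¹) h0
    rwa [cj_inv_cj, cj_cj] at h2)
  have h2 := cj_cent (g := g) h1
  rwa [cj_cj, mul_inv_cancel_left] at h2

variable [Finite G]

include h h' in
/-- a line `V^x` which does not centralise `U'^g` meets `U'^g` in a subgroup of `F` -/
theorem inf_le (hs : SM V X') {x : G} (hx : x ∈ X)
    (hn : ¬ cj x V ≤ centralizer ((cj g (cl V X') : Subgroup G) : Set G)) :
    cj x V ⊓ cj g (cl V X') ≤ F := by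
  have h2 := c.norm hs hx hn
  rw [SetLike.not_le_iff_exists] at h2
  obtain ⟨w, hwU, hwn⟩ := h2
  rintro v ⟨hv1, hv2⟩
  refine h.cent_le hx (c.le_X hwU) hwn hv1 ?_
  exact (mem_centralizer_iff.1 (cj_cent (g := g) h'.U_comm hv2) w hwU).symm

include h h' in
/-- `[U, U'^g ∩ Q] ≤ F` -/
theorem comm_mem (hs : SM V X') {u e : G} (hu : u ∈ cl V X) (he : e ∈ cj g (cl V X')) (heQ : e ∈ o2 X) :
    ⁅u, e⁆ ∈ F := by
  let K : Subgroup G :=
    { carrier := {u | u ∈ cl V X ∧ ⁅u, e⁆ ∈ F}
      one_mem' := ⟨one_mem _, by rw [commutatorElement_one_left]; exact one_mem _⟩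
      mul_mem' := by
        rintro a b ⟨ha, ha'⟩ ⟨hb, hb'⟩
        refine ⟨mul_mem ha hb, ?_⟩
        have e1 : ⁅a * b, e⁆ = (a * ⁅b, e⁆ * a⁻¹) * ⁅a, e⁆ := by
          simp only [commutatorElement_def]; group
        have h1 := mem_centralizer_iff.1 (h.X_le (h.U_le_X ha)) _ hb'
        rw [e1, ← h1, mul_inv_cancel_right]
        exact mul_mem hb' ha'
      inv_mem' := by
        rintro a ⟨ha, ha'⟩
        refine ⟨inv_mem ha, ?_⟩
        have e1 : ⁅a⁻¹, e⁆ = a⁻¹ * ⁅a, e⁆⁻¹ * a := by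
          simp only [commutatorElement_def]; group
        have h1 := mem_centralizer_iff.1 (h.X_le (h.U_le_X (inv_mem ha))) _ (inv_mem ha')
        rw [e1, ← h1, mul_assoc, inv_mul_cancel, mul_one]
        exact inv_mem ha' }
  have key : cl V X ≤ K := by
    refine cl_le fun x hx v hv => ⟨cj_le_cl hx hv, ?_⟩
    by_cases hn : cj x V ≤ centralizer ((cj g (cl V X') : Subgroup G) : Set G)
    · have h1 := mem_centralizer_iff.1 (hn hv) e he
      have h2 : ⁅v, e⁆ = 1 := by rw [commutatorElement_eq_one_iff_mul_comm]; exact h1.symm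
      rw [h2]; exact one_mem _
    · refine c.inf_le h h' hs hx hn ⟨?_, ?_⟩
      · have h1 := conj_mem' (h.o2_norm_line hx) heQ (inv_mem hv)
        have e1 : ⁅v, e⁆ = v * (e * v⁻¹ * e⁻¹) := by simp only [commutatorElement_def]; group
        rw [e1]
        exact mul_mem hv h1
      · have h1 := conj_mem' (c.U_norm) (cj_le_cl hx hv) he
        rw [commutatorElement_def]
        exact (cj g (cl V X')).mul_mem h1 ((cj g (cl V X')).inv_mem he)
  exact (key hu).2

omit [Finite G] in
include h h' in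
/-- `F ∩ F'^g = 1` -/
theorem inf_F : F ⊓ cj g F' = ⊥ := by
  have h1 : ∃ x ∈ X, ¬ cj x V ≤ centralizer ((cj g (cl V X') : Subgroup G) : Set G) := by
    by_contra hcon
    push Not at hcon
    exact c.ncomm (cl_le hcon)
  obtain ⟨x, hx, hn⟩ := h1
  by_contra hne
  apply hn
  refine cent_symm ?_
  unfold cl
  rw [EZero.cj_iSup]
  refine iSup_le fun y => ?_
  rw [cj_cj]
  refine h.ti' fun h0 => hne ?_
  rw [← le_bot_iff, ← h0]
  refine le_inf (inf_le_right.trans ?_) (inf_le_left.trans (h.F_le_line hx))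
  rw [← h'.cj_F y.2, cj_cj]
  exact cj_mono _ h'.F_le

include h h' in
/-- `[U ∩ Q'^g, U'^g ∩ Q] = 1` -/
theorem comm_E (hs : SM V X) (hs' : SM V X') {u e : G} (hu : u ∈ cl V X) (huQ : u ∈ cj g (o2 X'))
    (he : e ∈ cj g (cl V X')) (heQ : e ∈ o2 X) : u * e = e * u := by
  have h1 := c.comm_mem h h' hs' hu he heQ
  have h2 := c.inv.comm_mem h' h hs (u := g⁻¹ * e * g) (e := g⁻¹ * u * g) (mem_cj.1 he) (by
    rw [mem_cj, inv_inv]
    have e1 : g * (g⁻¹ * u * g) * g⁻¹ = u := by group
    rwa [e1]) (mem_cj.1 huQ)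
  have h3 : ⁅e, u⁆ ∈ cj g F' := by
    rw [mem_cj]
    have e1 : g⁻¹ * ⁅e, u⁆ * g = ⁅g⁻¹ * e * g, g⁻¹ * u * g⁆ := by
      simp only [commutatorElement_def]; group
    rwa [e1]
  have h4 : ⁅u, e⁆ ∈ F ⊓ cj g F' := by
    refine ⟨h1, ?_⟩
    rw [← commutatorElement_inv e u]
    exact (cj g F').inv_mem h3
  rw [c.inf_F h h', mem_bot, commutatorElement_eq_one_iff_mul_comm] at h4
  exact h4

omit c in
include h' in
/-- `Q'^g` normalises `V^{gy}` -/
theorem o2_norm_line {y : G} (hy : y ∈ X') :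
    cj g (o2 X') ≤ normalizer ((cj (g * y) V : Subgroup G) : Set G) := by
  have h1 := cj_norm (g := g) (h'.o2_norm_line hy)
  rwa [cj_cj] at h1

include h h' in
/-- the line by line count -/
theorem count (hs : SM V X) (hs' : SM V X') :
    (centralizer ((cj g (cl V X') : Subgroup G) : Set G)).relIndex (cl V X ⊓ cj g (o2 X')) = 1 ∨
    2 * (centralizer ((cj g (cl V X') : Subgroup G) : Set G)).relIndex (cl V X ⊓ cj g (o2 X')) ≤
      (o2 X).relIndex (cj g (cl V X')) := by
  set U' := cj g (cl V X') with hU'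
  set E := cl V X ⊓ cj g (o2 X') with hE
  let P : Subgroup G → Prop := fun D => U' ⊓ o2 X ≤ D ∧ D ≤ U' ∧
    ((centralizer (D : Set G)).relIndex E = 1 ∨
      2 * (centralizer (D : Set G)).relIndex E ≤ (o2 X).relIndex D)
  have hP0 : P (U' ⊓ o2 X) := by
    refine ⟨le_rfl, inf_le_left, Or.inl (relIndex_eq_one.2 ?_)⟩
    rintro u ⟨hu1, hu2⟩
    rw [mem_centralizer_iff]
    rintro e ⟨he1, he2⟩
    exact (c.comm_E h h' hs hs' hu1 hu2 he1 he2).symm
  obtain ⟨D, hD, hmax⟩ := Set.exists_max_image {D : Subgroup G | P D} (fun D => Nat.card D)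
    (Set.toFinite _) ⟨_, hP0⟩
  obtain ⟨hD1, hD2, hD3⟩ : P D := hD
  have hDU : D = U' := by
    by_contra hne
    have h1 : ∃ y ∈ X', ¬ cj (g * y) V ≤ D := by
      by_contra hcon
      push Not at hcon
      apply hne
      refine le_antisymm hD2 ?_
      rw [hU']
      unfold cl
      rw [EZero.cj_iSup]
      refine iSup_le fun y => ?_
      rw [cj_cj]
      exact hcon y y.2
    obtain ⟨y, hy, hyD⟩ := h1
    set B := cj (g * y) V with hB
    have hBU : B ≤ U' := by
      have h3 := cj_mono g (cj_le_cl (V := V) hy)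
      rwa [cj_cj] at h3
    have hPB : P (D ⊔ B) := by
      refine ⟨hD1.trans le_sup_left, sup_le hD2 hBU, ?_⟩
      rw [cent_sup, ← relIndex_inf_mul_relIndex]
      have hQD : (o2 X).relIndex D ≤ (o2 X).relIndex (D ⊔ B) :=
        relIndex_le_of_le_right le_sup_left index_ne_zero_of_finite
      by_cases hc : centralizer (D : Set G) ⊓ E ≤ centralizer (B : Set G)
      · rw [relIndex_eq_one.2 hc, one_mul]
        rcases hD3 with h4 | h4
        · exact Or.inl h4
        · exact Or.inr (h4.trans hQD)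
      · right
        have hEU : E ≤ cl V X := inf_le_left
        have h5 := (h.nff.cj (g * y)) (centralizer (D : Set G) ⊓ E) (h.isPGroup_U.to_le (inf_le_right.trans hEU))
          ((inf_le_right.trans inf_le_right).trans (o2_norm_line h' hy))
          (fun a ha => by rw [h.U_sq a (hEU ha.2)]; exact one_mem _)
          (fun a ha b hb => by
            have e : a * b = b * a := (mem_centralizer_iff.1 (h.U_comm (hEU ha.2)) b (hEU hb.2)).symm
            rw [e, mul_inv_cancel_right, mul_inv_cancel]; exact one_mem _) hc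
        have h6 := two_mul_le_of_lt (h.isPGroup_U.to_le (inf_le_right.trans hEU))
          (isPGroup_cj _ h.isPGroup_V) h5
        -- `|B : C_B(E₁)| ≤ |B : B ∩ D| ≤ |D B : D|`
        have h7 : (centralizer ((centralizer (D : Set G) ⊓ E : Subgroup G) : Set G)).relIndex B ≤
            D.relIndex (D ⊔ B) := by
          refine le_trans (relIndex_le_of_le_left (H := D) ?_ index_ne_zero_of_finite)
            (relIndex_le_of_le_right le_sup_right index_ne_zero_of_finite)
          exact cent_symm inf_le_left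
        have h8 : (centralizer (D : Set G)).relIndex E ≤ (o2 X).relIndex D := by
          rcases hD3 with h4 | h4
          · rw [h4]; exact Nat.pos_of_ne_zero index_ne_zero_of_finite
          · omega
        have h9 : (o2 X).relIndex D * D.relIndex (D ⊔ B) ≤ (o2 X).relIndex (D ⊔ B) := by
          have h10 := relIndex_mul_relIndex (D ⊓ o2 X) D (D ⊔ B) inf_le_left le_sup_left
          rw [inf_relIndex_left] at h10
          rw [h10]
          have h11 : (D ⊔ B) ⊓ o2 X ≤ D ⊓ o2 X := by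
            refine le_inf ?_ inf_le_right
            exact (inf_le_inf_right _ (sup_le hD2 hBU)).trans hD1
          have h12 := relIndex_le_of_le_left (L := D ⊔ B) h11 index_ne_zero_of_finite
          rwa [inf_relIndex_left] at h12
        calc 2 * ((centralizer (B : Set G)).relIndex (centralizer (D : Set G) ⊓ E) *
              (centralizer (D : Set G)).relIndex E)
            = (2 * (centralizer (B : Set G)).relIndex (centralizer (D : Set G) ⊓ E)) *
              (centralizer (D : Set G)).relIndex E := by ring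
          _ ≤ D.relIndex (D ⊔ B) * (o2 X).relIndex D := Nat.mul_le_mul (h6.trans h7) h8
          _ = (o2 X).relIndex D * D.relIndex (D ⊔ B) := by ring
          _ ≤ _ := h9
    have h13 := hmax _ hPB
    have h14 : D = D ⊔ B := eq_of_le_of_card_ge le_sup_left h13
    exact hyD (le_sup_right.trans h14.ge)
  rw [hDU] at hD3
  exact hD3

include h h' in
/-- `C_U(U'^g) ≤ Q'^g` -/
theorem cent_le_o2 : cl V X ⊓ centralizer ((cj g (cl V X') : Subgroup G) : Set G) ≤ cj g (o2 X') :=
  h'.le_cj_o2 (h.isPGroup_U.to_le inf_le_left) (inf_le_left.trans (c.le_cj_X)) inf_le_right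

include h h' in
/-- `|U : C_U(U'^g)| = |E : C_E(U'^g)| |U : E|` -/
theorem index_eq : (centralizer ((cj g (cl V X') : Subgroup G) : Set G)).relIndex (cl V X ⊓ cj g (o2 X')) *
    (cj g (o2 X')).relIndex (cl V X) =
      (centralizer ((cj g (cl V X') : Subgroup G) : Set G)).relIndex (cl V X) := by
  have h1 := relIndex_inf_mul_relIndex (centralizer ((cj g (cl V X') : Subgroup G) : Set G)) (cj g (o2 X'))
    (cl V X)
  rw [inf_comm (cl V X)]
  rw [h1, ← inf_relIndex_right]
  have h2 : centralizer ((cj g (cl V X') : Subgroup G) : Set G) ⊓ cj g (o2 X') ⊓ cl V X =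
      centralizer ((cj g (cl V X') : Subgroup G) : Set G) ⊓ cl V X := by
    apply le_antisymm
    · exact le_inf (inf_le_left.trans inf_le_left) inf_le_right
    · refine le_inf (le_inf inf_le_left ?_) inf_le_right
      rw [inf_comm]
      exact c.cent_le_o2 h h'
  rw [h2, inf_relIndex_right]

include h h' in
/-- `U ≰ Q'^g` -/
theorem nle (hs : SM V X) : ¬ cl V X ≤ cj g (o2 X') := by
  intro h0
  refine c.ncomm (cent_symm ?_)
  unfold cl
  rw [EZero.cj_iSup]
  refine iSup_le fun y => ?_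
  rw [cj_cj]
  refine hs (g * y) ?_ (h0.trans (o2_norm_line h' y.2))
  have h3 := cj_mono g (cj_le_cl (V := V) y.2)
  rw [cj_cj] at h3
  exact h3.trans (c.le_X)

omit c in
include h' in
omit [Finite G] in
theorem sq_U' : ∀ a ∈ cj g (cl V X'), a ^ 2 = 1 := by
  intro v hv
  have h1 := h'.U_sq _ (mem_cj.1 hv)
  have e : v ^ 2 = g * (g⁻¹ * v * g) ^ 2 * g⁻¹ := by rw [pow_two, pow_two]; group
  rw [e, h1]; group

include h h' in
/-- two noncentral factors: `2 |U'^g : U'^g ∩ Q| ≤ |U : U ∩ Q'^g|` -/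
theorem two_mul_le (hX : NoOv X) (h2 : Two V X) (hs : SM V X) (hs' : SM V X') :
    2 * (o2 X).relIndex (cj g (cl V X')) ≤ (cj g (o2 X')).relIndex (cl V X) := by
  obtain ⟨N, hN, hXN, hE, hE'⟩ := h2
  have h3 := hX.two hN h.U_le_X h.U_sq h.U_comm hXN (le_normalizer_cl V X) hE hE' (c.le_X)
    (fun a ha => by rw [sq_U' h' a ha]; exact one_mem _) (fun a ha b hb => by
      have e : a * b = b * a := (mem_centralizer_iff.1 (cj_cent (g := g) h'.U_comm ha) b hb).symm
      rw [e, mul_inv_cancel_right, mul_inv_cancel]; exact one_mem _)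
  rw [← c.index_eq h h'] at h3
  have hne := two_le_of_ne (c.inv.nle h' h hs')
  have e1 : (cj g⁻¹ (o2 X)).relIndex (cl V X') = (o2 X).relIndex (cj g (cl V X')) := by
    rw [← relIndex_cj g, cj_cj_inv]
  rw [e1] at hne
  have hne' := two_le_of_ne (c.nle h h' hs)
  rcases c.count h h' hs hs' with h4 | h4
  · rw [h4, one_mul] at h3
    nlinarith
  · nlinarith

end Mut

/-- **K0 MUTUAL PAIR**, contradiction form. -/
theorem Mut.absurd [Finite G] {V F T X F' T' X' L Q0 L' Q0' : Subgroup G} {g : G} (c : Mut V X X' g)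
    (h : Pan V F T X L Q0) (h' : Pan V F' T' X' L' Q0') (hX : NoOv X) (hX' : NoOv X') (hs : SM V X) (hs' : SM V X')
    (h2 : Two V X) (h2' : Two V X') : False := by
  have h3 := c.two_mul_le h h' hX h2 hs hs'
  have h4 := c.inv.two_mul_le h' h hX' h2' hs' hs
  have e1 : (o2 X').relIndex (cj g⁻¹ (cl V X)) = (cj g (o2 X')).relIndex (cl V X) := by
    rw [← relIndex_cj g, cj_cj_inv]
  have e2 : (cj g⁻¹ (o2 X)).relIndex (cl V X') = (o2 X).relIndex (cj g (cl V X')) := by
    rw [← relIndex_cj g, cj_cj_inv]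
  rw [e1, e2] at h4
  have h5 : 0 < (o2 X).relIndex (cj g (cl V X')) := Nat.pos_of_ne_zero index_ne_zero_of_finite
  omega

/-- **K0 MUTUAL PAIR (K0P)**: `U_p ≤ X_q`, `U_q ≤ X_p` ⇒ `[U_p, U_q] = 1`; `p = (F,T,X)`, `q = (F',T',X')^g`. -/
theorem k0p [Finite G] {V F T X F' T' X' L Q0 L' Q0' : Subgroup G} {g : G}
    (h : Pan V F T X L Q0) (h' : Pan V F' T' X' L' Q0') (hX : NoOv X) (hX' : NoOv X') (hs : SM V X) (hs' : SM V X')
    (h2 : Two V X) (h2' : Two V X') (h3 : cl V X ≤ cj g X') (h4 : cj g (cl V X') ≤ X) :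
    cl V X ≤ centralizer ((cj g (cl V X') : Subgroup G) : Set G) := by
  by_contra hn
  exact Mut.absurd ⟨hn, h3, h4⟩ h h' hX hX' hs hs' h2 h2'

/-- (K0P) for two conjugates of one panel: `U^a ≤ X^b`, `U^b ≤ X^a` ⇒ `[U^a, U^b] = 1`. -/
theorem k0p_cj [Finite G] {V F T X L Q0 : Subgroup G} {a b : G}
    (h : Pan V F T X L Q0) (hX : NoOv X) (hs : SM V X) (h2 : Two V X)
    (h3 : cj a (cl V X) ≤ cj b X) (h4 : cj b (cl V X) ≤ cj a X) :
    cj a (cl V X) ≤ centralizer ((cj b (cl V X) : Subgroup G) : Set G) := by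
  have h5 := k0p (g := a⁻¹ * b) h h hX hX hs hs h2 h2 (by
    rw [← cj_cj, ← cj_le_iff]; exact h3) (by
    rw [← cj_cj]
    have := cj_mono a⁻¹ h4
    rwa [cj_inv_cj] at this)
  have h6 := cj_cent (g := a) h5
  rwa [cj_cj, mul_inv_cancel_left] at h6

end Cfsg.Agent.Omega.NO3b.K0.Mix
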