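import Cfsg.Agent.Omega.NO3b.K0.Mix.Pan

/-!
# MIXED K0 (helper264 #17875 (2), helper455 #18325 (2)), part 2: the theorem

* `Fam V L Q0 F T X` : a family of panels `X i` over one line `V`, no nontrivial 2-subgroup is normalised by `L`
  and all `X i`;
* `SM V X` : LEMMA SM for the panel `X`: a line `V^g ≤ X` normalised by `U = ⟨V^X⟩` commutes with `U`;
* `Two V X` : at least two noncentral chief factors of `X` in `U`;
* `Fam.absurd` : `Fam`, `NoOv`, `SM`, `Two` for all `X i` are contradictory.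
-/

set_option autoImplicit false

namespace Cfsg.Agent.Omega.NO3b.K0.Mix

open Subgroup Cfsg Cfsg.Agent.ZN Cfsg.Agent.ZN.ChoiceBase Cfsg.Agent.ZN.ChoiceSit
open Cfsg.Agent.MinSimple.MinParabolic (IsMinPar)
open Cfsg.Agent.MinSimple.VModule (oddGen oddGen_le mem_oddGen le_normalizer_oddGen oddGen_le_of_sup)
open Cfsg.Agent.Omega.NO3b.EZero
open scoped commutatorElement

universe u v

variable {G : Type u} [Group G]

/-- A family of panels over one line. -/
structure Fam {ι : Type v} (V L Q0 : Subgroup G) (F T X : ι → Subgroup G) : Prop where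
  pan : ∀ i, Pan V (F i) (T i) (X i) L Q0
  nonloc : ∀ R : Subgroup G, IsPGroup 2 R → L ≤ normalizer (R : Set G) →
    (∀ i, X i ≤ normalizer (R : Set G)) → R = ⊥

/-- LEMMA SM for the panel `X`. -/
def SM (V X : Subgroup G) : Prop :=
  ∀ g : G, cj g V ≤ X → cl V X ≤ normalizer ((cj g V : Subgroup G) : Set G) →
    cj g V ≤ centralizer (cl V X : Set G)

/-- two noncentral chief factors in `⟨V^X⟩` -/
def Two (V X : Subgroup G) : Prop :=
  ∃ N : Subgroup G, N ≤ cl V X ∧ X ≤ normalizer (N : Set G) ∧ ¬ ⁅cl V X, oddGen X⁆ ≤ N ∧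
    ¬ N ≤ centralizer (oddGen X : Set G)

namespace Pan

variable {V F T X L Q0 : Subgroup G} (h : Pan V F T X L Q0)
include h

theorem le_cj_Q0_of {k : G} {R : Subgroup G} (hR : IsPGroup 2 R) (h1 : R ≤ cj k L)
    (h2 : R ≤ centralizer ((cj k V : Subgroup G) : Set G)) : R ≤ cj k Q0 := by
  have h3 := h.le_Q0 (cj k⁻¹ R) (isPGroup_cj _ hR) (by
    have := cj_mono k⁻¹ h1
    rwa [cj_inv_cj] at this) (by
    have := cj_cent (g := k⁻¹) h2
    rwa [cj_inv_cj] at this)
  have h4 := cj_mono k h3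
  rwa [cj_cj_inv] at h4

/-- `C_{V^x}(w) ≤ F` for `w ∈ X - N(V^x)` -/
theorem cent_le {x w : G} (hx : x ∈ X)
    (hw : w ∈ X) (hn : w ∉ normalizer ((cj x V : Subgroup G) : Set G)) {v : G} (hv : v ∈ cj x V)
    (hc : v * w = w * v) : v ∈ F := by
  have h1 : cj (w * x) V ≠ cj x V := by
    intro h0
    rw [← cj_cj] at h0
    exact hn (mem_normalizer_iff_cj.2 h0)
  rw [← h.line' (mul_mem hw hx) hx h1]
  refine ⟨?_, hv⟩
  change v ∈ cj (w * x) V
  rw [← cj_cj, mem_cj, mul_assoc, hc, inv_mul_cancel_left]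
  exact hv

theorem V_ne_bot : V ≠ ⊥ := fun h0 => h.F_ne_bot (le_bot_iff.1 (h.F_le.trans h0.le))

variable [Finite G]

theorem le_cj_o2 {k : G} {R : Subgroup G} (hR : IsPGroup 2 R) (h1 : R ≤ cj k X)
    (h2 : R ≤ centralizer ((cj k (cl V X) : Subgroup G) : Set G)) : R ≤ cj k (o2 X) := by
  have h3 := h.le_o2_of_cent_U (R := cj k⁻¹ R) (isPGroup_cj _ hR) (by
    have := cj_mono k⁻¹ h1
    rwa [cj_inv_cj] at this) (by
    have := cj_cent (g := k⁻¹) h2
    rwa [cj_inv_cj] at this)
  have h4 := cj_mono k h3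
  rwa [cj_cj_inv] at h4

end Pan

/-- `g ∈ L (X L)^n`, the `X`-factors from any `X i` -/
inductive Wk {ι : Type v} (X : ι → Subgroup G) (L : Subgroup G) : ℕ → G → Prop
  | base {l : G} : l ∈ L → Wk X L 0 l
  | step {n : ℕ} {g x l : G} (i : ι) : Wk X L n g → x ∈ X i → l ∈ L → Wk X L (n + 1) (g * x * l)

section Walk

variable {ι : Type v} {X : ι → Subgroup G} {L : Subgroup G}

theorem Wk.mul_right {n : ℕ} {g l : G} (h : Wk X L n g) (hl : l ∈ L) : Wk X L n (g * l) := by
  cases h with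
  | base hl' => exact Wk.base (mul_mem hl' hl)
  | step i hg hx hl' => rw [mul_assoc]; exact Wk.step i hg hx (mul_mem hl' hl)

theorem Wk.left {n : ℕ} {g : G} (h : Wk X L n g) {l x : G} (hl : l ∈ L) (i : ι) (hx : x ∈ X i) :
    Wk X L (n + 1) (l * x * g) := by
  induction h with
  | base hl' => exact (Wk.base hl).step i hx hl'
  | step j _ hx' hl' ih =>
    have h1 := ih.step j hx' hl'
    simpa only [mul_assoc] using h1

theorem Wk.inv {n : ℕ} {g : G} (h : Wk X L n g) : Wk X L n g⁻¹ := by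
  induction h with
  | base hl => exact Wk.base (inv_mem hl)
  | @step n g x l i _ hx' hl' ih =>
    have h1 := ih.left (inv_mem hl') i (inv_mem hx')
    have e : (g * x * l)⁻¹ = l⁻¹ * x⁻¹ * g⁻¹ := by group
    rw [e]; exact h1

theorem Wk.cover {h : G} (hh : h ∈ (⨆ i, X i) ⊔ L) : ∃ n, Wk X L n h := by
  have hcl : (⨆ i, X i) ⊔ L = closure ((⋃ i, (X i : Set G)) ∪ (L : Set G)) := by
    rw [Subgroup.closure_union, closure_eq, Subgroup.closure_iUnion]
    simp only [closure_eq]
  rw [hcl] at hh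
  induction hh using Subgroup.closure_induction_right with
  | one => exact ⟨0, Wk.base (one_mem _)⟩
  | mul_right x hx y hy ih =>
    obtain ⟨n, hn⟩ := ih
    rcases hy with hy | hy
    · obtain ⟨i, hi⟩ := Set.mem_iUnion.1 hy
      exact ⟨n + 1, by simpa using hn.step i hi (one_mem _)⟩
    · exact ⟨n, hn.mul_right hy⟩
  | mul_inv_cancel x hx y hy ih =>
    obtain ⟨n, hn⟩ := ih
    rcases hy with hy | hy
    · obtain ⟨i, hi⟩ := Set.mem_iUnion.1 hy
      exact ⟨n + 1, by simpa using hn.step i (inv_mem hi) (one_mem _)⟩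
    · exact ⟨n, hn.mul_right (inv_mem hy)⟩

end Walk

/-- a critical pair: the points `X` and `X'^g` -/
structure Crit (V X X' Q0 : Subgroup G) (g : G) : Prop where
  ncomm : ¬ cl V X ≤ centralizer ((cj g (cl V X') : Subgroup G) : Set G)
  le1 : cl V X ≤ cj g Q0
  le2 : cj g (cl V X') ≤ Q0

theorem Crit.inv {V X X' Q0 : Subgroup G} {g : G} (c : Crit V X X' Q0 g) : Crit V X' X Q0 g⁻¹ := by
  refine ⟨fun h0 => c.ncomm ?_, ?_, ?_⟩
  · have h1 := cj_cent (g := g) h0
    rw [cj_cj_inv] at h1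
    exact cent_symm h1
  · rw [← cj_le_iff]; exact c.le2
  · rw [cj_le_iff, inv_inv]; exact c.le1

namespace Fam

variable {ι : Type v} {V L Q0 : Subgroup G} {F T X : ι → Subgroup G} (h : Fam V L Q0 F T X)
include h

variable [Finite G]

theorem le_cj_Q0 {n : ℕ} {g : G} (hg : Wk X L n g)
    (hm : ∀ m < n, ∀ k, Wk X L m k → ∀ i j, cl V (X i) ≤
      centralizer ((cj k (cl V (X j)) : Subgroup G) : Set G)) (i : ι) :
    cl V (X i) ≤ cj g Q0 := by
  have p := h.pan i
  induction hg with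
  | base hl =>
    rw [p.cj_Q0 hl]
    exact p.le_Q0 _ p.isPGroup_U (p.U_le_o2.trans (p.o2_le_T.trans p.T_le))
      (cent_symm ((le_cl V (X i)).trans p.U_comm))
  | @step n g x l j hg hx hl ih =>
    have pj := h.pan j
    have h1 := ih fun m hmn k hk => hm m (by omega) k hk
    have h2 := hm n (by omega) g hg i j
    have h3 := pj.le_cj_o2 p.isPGroup_U (h1.trans (cj_mono g pj.Q0_X)) h2
    have h4 : cj g (o2 (X j)) = cj (g * x) (o2 (X j)) := by
      rw [← cj_cj, cj_of_le (ChoiceSit.le_normalizer_o2 (X j)) hx]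
    rw [h4] at h3
    have h5 : cl V (X i) ≤ cj (g * x) Q0 := by
      refine p.le_cj_Q0_of p.isPGroup_U (h3.trans (cj_mono _ (pj.o2_le_T.trans pj.T_le))) ?_
      refine h2.trans (centralizer_le ?_)
      have h6 := cj_mono g (cj_le_cl (V := V) hx)
      rwa [cj_cj] at h6
    rwa [← cj_cj, p.cj_Q0 hl]

theorem exists_crit [Nonempty ι] : ∃ i j g, Crit V (X i) (X j) Q0 g := by
  have hex : ∃ n, ∃ g, Wk X L n g ∧ ∃ i j, ¬ cl V (X i) ≤
      centralizer ((cj g (cl V (X j)) : Subgroup G) : Set G) := by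
    by_contra hcon
    push Not at hcon
    have h1 : ∀ k ∈ (⨆ i, X i) ⊔ L, ∀ i j, cl V (X i) ≤
        centralizer ((cj k (cl V (X j)) : Subgroup G) : Set G) := by
      intro k hk i j
      obtain ⟨n, hn⟩ := Wk.cover hk
      exact hcon n k hn i j
    set K := (⨆ i, X i) ⊔ L with hK
    set A : Subgroup G := ⨆ i, cl V (X i) with hA
    have hAc : ∀ k ∈ K, A ≤ centralizer ((cj k A : Subgroup G) : Set G) := by
      intro k hk
      refine iSup_le fun i => cent_symm ?_
      rw [hA, EZero.cj_iSup]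
      exact iSup_le fun j => cent_symm (h1 k hk i j)
    have hc : cl A K ≤ centralizer ((cl A K : Subgroup G) : Set G) := by
      refine cl_le fun a ha => cent_symm (cl_le fun b hb => ?_)
      have h2 := cj_cent (g := b) (hAc (b⁻¹ * a) (mul_mem (inv_mem hb) ha))
      rwa [cj_cj, mul_inv_cancel_left] at h2
    have hAA : A ≤ centralizer (A : Set G) := by
      have h2 := hAc 1 (one_mem _)
      have e : cj 1 A = A := cj_self (one_mem _)
      rwa [e] at h2
    have hAsq : ∀ a ∈ A, a ^ 2 = 1 :=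
      sq_of_comm hAA (fun i : ι => le_iSup (fun i => cl V (X i)) i) le_rfl fun i => (h.pan i).U_sq
    have hsq : ∀ w ∈ cl A K, w ^ 2 = 1 :=
      sq_of_comm hc (fun i : K => cj_le_cl i.2) le_rfl fun i v hv => by
        have h1 := hAsq _ (mem_cj.1 hv)
        have e : v ^ 2 = (i : G) * ((i : G)⁻¹ * v * i) ^ 2 * (i : G)⁻¹ := by rw [pow_two, pow_two]; group
        rw [e, h1]; group
    have h2 := h.nonloc _ (fun x => ⟨1, Subtype.ext (by simpa using hsq x x.2)⟩)
      ((le_sup_right : L ≤ K).trans (le_normalizer_cl _ _))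
      (fun i => ((le_iSup X i).trans (le_sup_left : (⨆ i, X i) ≤ K)).trans (le_normalizer_cl _ _))
    obtain ⟨i⟩ := ‹Nonempty ι›
    exact (h.pan i).V_ne_bot (le_bot_iff.1 (((le_cl V (X i)).trans
      ((le_iSup (fun i => cl V (X i)) i).trans (le_cl A K))).trans h2.le))
  classical
  obtain ⟨g, hg, i, j, hne⟩ := Nat.find_spec hex
  have hm : ∀ m < Nat.find hex, ∀ k, Wk X L m k → ∀ i j,
      cl V (X i) ≤ centralizer ((cj k (cl V (X j)) : Subgroup G) : Set G) := by
    intro m hmn k hk i j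
    by_contra h0
    exact Nat.find_min hex hmn ⟨k, hk, i, j, h0⟩
  refine ⟨i, j, g, hne, h.le_cj_Q0 hg hm i, ?_⟩
  rw [cj_le_iff]
  exact h.le_cj_Q0 hg.inv hm j

end Fam

namespace Crit

variable {V F T X F' T' X' L Q0 : Subgroup G} {g : G} (c : Crit V X X' Q0 g)
  (h : Pan V F T X L Q0) (h' : Pan V F' T' X' L Q0)
include c

include h in
/-- `U'^g ≤ X` -/
theorem le_X : cj g (cl V X') ≤ X := c.le2.trans h.Q0_X

include h' in
/-- `U ≤ X'^g` -/
theorem le_cj_X : cl V X ≤ cj g X' := c.le1.trans (cj_mono g h'.Q0_X)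

include h' in
/-- `U` normalises `U'^g` -/
theorem U_norm : cl V X ≤ normalizer ((cj g (cl V X') : Subgroup G) : Set G) :=
  (c.le_cj_X h').trans (cj_norm (le_normalizer_cl V X'))

include h' in
/-- a line `V^x` either commutes with `U'^g` or is not normalised by it -/
theorem norm (hs : SM V X') {x : G} (hx : x ∈ X)
    (hn : ¬ cj x V ≤ centralizer ((cj g (cl V X') : Subgroup G) : Set G)) :
    ¬ cj g (cl V X') ≤ normalizer ((cj x V : Subgroup G) : Set G) := by
  intro h0
  apply hn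
  have h1 := hs (g⁻¹ * x) (by
    rw [← cj_cj, cj_le_iff, inv_inv]
    exact (cj_le_cl hx).trans (c.le_cj_X h')) (by
    have h2 := cj_norm (g := g⁻¹) h0
    rwa [cj_inv_cj, cj_cj] at h2)
  have h2 := cj_cent (g := g) h1
  rwa [cj_cj, mul_inv_cancel_left] at h2

variable [Finite G]

include h h' in
/-- a line `V^x` which does not centralise `U'^g` meets `U'^g` in a subgroup of `F` -/
theorem inf_le (hs : SM V X') {x : G} (hx : x ∈ X)
    (hn : ¬ cj x V ≤ centralizer ((cj g (cl V X') : Subgroup G) : Set G)) :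
    cj x V ⊓ cj g (cl V X') ≤ F := by
  have h2 := c.norm h' hs hx hn
  rw [SetLike.not_le_iff_exists] at h2
  obtain ⟨w, hwU, hwn⟩ := h2
  rintro v ⟨hv1, hv2⟩
  refine h.cent_le hx (c.le_X h hwU) hwn hv1 ?_
  exact (mem_centralizer_iff.1 (cj_cent (g := g) h'.U_comm hv2) w hwU).symm

include h h' in
/-- `[U, U'^g ∩ Q] ≤ F` -/
theorem comm_mem (hs : SM V X') {u e : G} (hu : u ∈ cl V X) (he : e ∈ cj g (cl V X')) (heQ : e ∈ o2 X) :
    ⁅u, e⁆ ∈ F := by
  let K : Subgroup G :=
    { carrier := {u | u ∈ cl V X ∧ ⁅u, e⁆ ∈ F}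
      one_mem' := ⟨one_mem _, by rw [commutatorElement_one_left]; exact one_mem _⟩
      mul_mem' := by
        rintro a b ⟨ha, ha'⟩ ⟨hb, hb'⟩
        refine ⟨mul_mem ha hb, ?_⟩
        have e1 : ⁅a * b, e⁆ = (a * ⁅b, e⁆ * a⁻¹) * ⁅a, e⁆ := by
          simp only [commutatorElement_def]; group
        have h1 := mem_centralizer_iff.1 (h.X_le (h.U_le_X ha)) _ hb'
        rw [e1, ← h1, mul_inv_cancel_right]
        exact mul_mem hb' ha'
      inv_mem' := by
        rintro a ⟨ha, ha'⟩
        refine ⟨inv_mem ha, ?_⟩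
        have e1 : ⁅a⁻¹, e⁆ = a⁻¹ * ⁅a, e⁆⁻¹ * a := by
          simp only [commutatorElement_def]; group
        have h1 := mem_centralizer_iff.1 (h.X_le (h.U_le_X (inv_mem ha))) _ (inv_mem ha')
        rw [e1, ← h1, mul_assoc, inv_mul_cancel, mul_one]
        exact inv_mem ha' }
  have key : cl V X ≤ K := by
    refine cl_le fun x hx v hv => ⟨cj_le_cl hx hv, ?_⟩
    by_cases hn : cj x V ≤ centralizer ((cj g (cl V X') : Subgroup G) : Set G)
    · have h1 := mem_centralizer_iff.1 (hn hv) e he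
      have h2 : ⁅v, e⁆ = 1 := by rw [commutatorElement_eq_one_iff_mul_comm]; exact h1.symm
      rw [h2]; exact one_mem _
    · refine c.inf_le h h' hs hx hn ⟨?_, ?_⟩
      · have h1 := conj_mem' (h.o2_norm_line hx) heQ (inv_mem hv)
        have e1 : ⁅v, e⁆ = v * (e * v⁻¹ * e⁻¹) := by simp only [commutatorElement_def]; group
        rw [e1]
        exact mul_mem hv h1
      · have h1 := conj_mem' (c.U_norm h') (cj_le_cl hx hv) he
        rw [commutatorElement_def]
        exact (cj g (cl V X')).mul_mem h1 ((cj g (cl V X')).inv_mem he)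
  exact (key hu).2

omit [Finite G] in
include h h' in
/-- `F ∩ F'^g = 1` -/
theorem inf_F : F ⊓ cj g F' = ⊥ := by
  have h1 : ∃ x ∈ X, ¬ cj x V ≤ centralizer ((cj g (cl V X') : Subgroup G) : Set G) := by
    by_contra hcon
    push Not at hcon
    exact c.ncomm (cl_le hcon)
  obtain ⟨x, hx, hn⟩ := h1
  by_contra hne
  apply hn
  refine cent_symm ?_
  unfold cl
  rw [EZero.cj_iSup]
  refine iSup_le fun y => ?_
  rw [cj_cj]
  refine h.ti' fun h0 => hne ?_
  rw [← le_bot_iff, ← h0]
  refine le_inf (inf_le_right.trans ?_) (inf_le_left.trans (h.F_le_line hx))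
  rw [← h'.cj_F y.2, cj_cj]
  exact cj_mono _ h'.F_le

include h h' in
/-- `[U ∩ Q'^g, U'^g ∩ Q] = 1` -/
theorem comm_E (hs : SM V X) (hs' : SM V X') {u e : G} (hu : u ∈ cl V X) (huQ : u ∈ cj g (o2 X'))
    (he : e ∈ cj g (cl V X')) (heQ : e ∈ o2 X) : u * e = e * u := by
  have h1 := c.comm_mem h h' hs' hu he heQ
  have h2 := c.inv.comm_mem h' h hs (u := g⁻¹ * e * g) (e := g⁻¹ * u * g) (mem_cj.1 he) (by
    rw [mem_cj, inv_inv]
    have e1 : g * (g⁻¹ * u * g) * g⁻¹ = u := by group
    rwa [e1]) (mem_cj.1 huQ)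
  have h3 : ⁅e, u⁆ ∈ cj g F' := by
    rw [mem_cj]
    have e1 : g⁻¹ * ⁅e, u⁆ * g = ⁅g⁻¹ * e * g, g⁻¹ * u * g⁆ := by
      simp only [commutatorElement_def]; group
    rwa [e1]
  have h4 : ⁅u, e⁆ ∈ F ⊓ cj g F' := by
    refine ⟨h1, ?_⟩
    rw [← commutatorElement_inv e u]
    exact (cj g F').inv_mem h3
  rw [c.inf_F h h', mem_bot, commutatorElement_eq_one_iff_mul_comm] at h4
  exact h4

omit c in
include h' in
/-- `Q'^g` normalises `V^{gy}` -/
theorem o2_norm_line {y : G} (hy : y ∈ X') :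
    cj g (o2 X') ≤ normalizer ((cj (g * y) V : Subgroup G) : Set G) := by
  have h1 := cj_norm (g := g) (h'.o2_norm_line hy)
  rwa [cj_cj] at h1

include h h' in
/-- the line by line count -/
theorem count (hs : SM V X) (hs' : SM V X') :
    (centralizer ((cj g (cl V X') : Subgroup G) : Set G)).relIndex (cl V X ⊓ cj g (o2 X')) = 1 ∨
    2 * (centralizer ((cj g (cl V X') : Subgroup G) : Set G)).relIndex (cl V X ⊓ cj g (o2 X')) ≤
      (o2 X).relIndex (cj g (cl V X')) := by
  set U' := cj g (cl V X') with hU'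
  set E := cl V X ⊓ cj g (o2 X') with hE
  let P : Subgroup G → Prop := fun D => U' ⊓ o2 X ≤ D ∧ D ≤ U' ∧
    ((centralizer (D : Set G)).relIndex E = 1 ∨
      2 * (centralizer (D : Set G)).relIndex E ≤ (o2 X).relIndex D)
  have hP0 : P (U' ⊓ o2 X) := by
    refine ⟨le_rfl, inf_le_left, Or.inl (relIndex_eq_one.2 ?_)⟩
    rintro u ⟨hu1, hu2⟩
    rw [mem_centralizer_iff]
    rintro e ⟨he1, he2⟩
    exact (c.comm_E h h' hs hs' hu1 hu2 he1 he2).symm
  obtain ⟨D, hD, hmax⟩ := Set.exists_max_image {D : Subgroup G | P D} (fun D => Nat.card D)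
    (Set.toFinite _) ⟨_, hP0⟩
  obtain ⟨hD1, hD2, hD3⟩ : P D := hD
  have hDU : D = U' := by
    by_contra hne
    have h1 : ∃ y ∈ X', ¬ cj (g * y) V ≤ D := by
      by_contra hcon
      push Not at hcon
      apply hne
      refine le_antisymm hD2 ?_
      rw [hU']
      unfold cl
      rw [EZero.cj_iSup]
      refine iSup_le fun y => ?_
      rw [cj_cj]
      exact hcon y y.2
    obtain ⟨y, hy, hyD⟩ := h1
    set B := cj (g * y) V with hB
    have hBU : B ≤ U' := by
      have h3 := cj_mono g (cj_le_cl (V := V) hy)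
      rwa [cj_cj] at h3
    have hPB : P (D ⊔ B) := by
      refine ⟨hD1.trans le_sup_left, sup_le hD2 hBU, ?_⟩
      rw [cent_sup, ← relIndex_inf_mul_relIndex]
      have hQD : (o2 X).relIndex D ≤ (o2 X).relIndex (D ⊔ B) :=
        relIndex_le_of_le_right le_sup_left index_ne_zero_of_finite
      by_cases hc : centralizer (D : Set G) ⊓ E ≤ centralizer (B : Set G)
      · rw [relIndex_eq_one.2 hc, one_mul]
        rcases hD3 with h4 | h4
        · exact Or.inl h4
        · exact Or.inr (h4.trans hQD)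
      · right
        have hEU : E ≤ cl V X := inf_le_left
        have h5 := (h.nff.cj (g * y)) (centralizer (D : Set G) ⊓ E) (h.isPGroup_U.to_le (inf_le_right.trans hEU))
          ((inf_le_right.trans inf_le_right).trans (o2_norm_line h' hy))
          (fun a ha => by rw [h.U_sq a (hEU ha.2)]; exact one_mem _)
          (fun a ha b hb => by
            have e : a * b = b * a := (mem_centralizer_iff.1 (h.U_comm (hEU ha.2)) b (hEU hb.2)).symm
            rw [e, mul_inv_cancel_right, mul_inv_cancel]; exact one_mem _) hc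
        have h6 := two_mul_le_of_lt (h.isPGroup_U.to_le (inf_le_right.trans hEU))
          (isPGroup_cj _ h.isPGroup_V) h5
        -- `|B : C_B(E₁)| ≤ |B : B ∩ D| ≤ |D B : D|`
        have h7 : (centralizer ((centralizer (D : Set G) ⊓ E : Subgroup G) : Set G)).relIndex B ≤
            D.relIndex (D ⊔ B) := by
          refine le_trans (relIndex_le_of_le_left (H := D) ?_ index_ne_zero_of_finite)
            (relIndex_le_of_le_right le_sup_right index_ne_zero_of_finite)
          exact cent_symm inf_le_left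
        have h8 : (centralizer (D : Set G)).relIndex E ≤ (o2 X).relIndex D := by
          rcases hD3 with h4 | h4
          · rw [h4]; exact Nat.pos_of_ne_zero index_ne_zero_of_finite
          · omega
        have h9 : (o2 X).relIndex D * D.relIndex (D ⊔ B) ≤ (o2 X).relIndex (D ⊔ B) := by
          have h10 := relIndex_mul_relIndex (D ⊓ o2 X) D (D ⊔ B) inf_le_left le_sup_left
          rw [inf_relIndex_left] at h10
          rw [h10]
          have h11 : (D ⊔ B) ⊓ o2 X ≤ D ⊓ o2 X := by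
            refine le_inf ?_ inf_le_right
            exact (inf_le_inf_right _ (sup_le hD2 hBU)).trans hD1
          have h12 := relIndex_le_of_le_left (L := D ⊔ B) h11 index_ne_zero_of_finite
          rwa [inf_relIndex_left] at h12
        calc 2 * ((centralizer (B : Set G)).relIndex (centralizer (D : Set G) ⊓ E) *
              (centralizer (D : Set G)).relIndex E)
            = (2 * (centralizer (B : Set G)).relIndex (centralizer (D : Set G) ⊓ E)) *
              (centralizer (D : Set G)).relIndex E := by ring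
          _ ≤ D.relIndex (D ⊔ B) * (o2 X).relIndex D := Nat.mul_le_mul (h6.trans h7) h8
          _ = (o2 X).relIndex D * D.relIndex (D ⊔ B) := by ring
          _ ≤ _ := h9
    have h13 := hmax _ hPB
    have h14 : D = D ⊔ B := eq_of_le_of_card_ge le_sup_left h13
    exact hyD (le_sup_right.trans h14.ge)
  rw [hDU] at hD3
  exact hD3

include h h' in
/-- `C_U(U'^g) ≤ Q'^g` -/
theorem cent_le_o2 : cl V X ⊓ centralizer ((cj g (cl V X') : Subgroup G) : Set G) ≤ cj g (o2 X') :=
  h'.le_cj_o2 (h.isPGroup_U.to_le inf_le_left) (inf_le_left.trans (c.le_cj_X h')) inf_le_right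

include h h' in
/-- `|U : C_U(U'^g)| = |E : C_E(U'^g)| |U : E|` -/
theorem index_eq : (centralizer ((cj g (cl V X') : Subgroup G) : Set G)).relIndex (cl V X ⊓ cj g (o2 X')) *
    (cj g (o2 X')).relIndex (cl V X) =
      (centralizer ((cj g (cl V X') : Subgroup G) : Set G)).relIndex (cl V X) := by
  have h1 := relIndex_inf_mul_relIndex (centralizer ((cj g (cl V X') : Subgroup G) : Set G)) (cj g (o2 X'))
    (cl V X)
  rw [inf_comm (cl V X)]
  rw [h1, ← inf_relIndex_right]
  have h2 : centralizer ((cj g (cl V X') : Subgroup G) : Set G) ⊓ cj g (o2 X') ⊓ cl V X =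
      centralizer ((cj g (cl V X') : Subgroup G) : Set G) ⊓ cl V X := by
    apply le_antisymm
    · exact le_inf (inf_le_left.trans inf_le_left) inf_le_right
    · refine le_inf (le_inf inf_le_left ?_) inf_le_right
      rw [inf_comm]
      exact c.cent_le_o2 h h'
  rw [h2, inf_relIndex_right]

include h h' in
/-- `U ≰ Q'^g` -/
theorem nle (hs : SM V X) : ¬ cl V X ≤ cj g (o2 X') := by
  intro h0
  refine c.ncomm (cent_symm ?_)
  unfold cl
  rw [EZero.cj_iSup]
  refine iSup_le fun y => ?_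
  rw [cj_cj]
  refine hs (g * y) ?_ (h0.trans (o2_norm_line h' y.2))
  have h3 := cj_mono g (cj_le_cl (V := V) y.2)
  rw [cj_cj] at h3
  exact h3.trans (c.le_X h)

omit c in
include h' in
omit [Finite G] in
theorem sq_U' : ∀ a ∈ cj g (cl V X'), a ^ 2 = 1 := by
  intro v hv
  have h1 := h'.U_sq _ (mem_cj.1 hv)
  have e : v ^ 2 = g * (g⁻¹ * v * g) ^ 2 * g⁻¹ := by rw [pow_two, pow_two]; group
  rw [e, h1]; group

include h h' in
/-- two noncentral factors: `2 |U'^g : U'^g ∩ Q| ≤ |U : U ∩ Q'^g|` -/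
theorem two_mul_le (hX : NoOv X) (h2 : Two V X) (hs : SM V X) (hs' : SM V X') :
    2 * (o2 X).relIndex (cj g (cl V X')) ≤ (cj g (o2 X')).relIndex (cl V X) := by
  obtain ⟨N, hN, hXN, hE, hE'⟩ := h2
  have h3 := hX.two hN h.U_le_X h.U_sq h.U_comm hXN (le_normalizer_cl V X) hE hE' (c.le_X h)
    (fun a ha => by rw [sq_U' h' a ha]; exact one_mem _) (fun a ha b hb => by
      have e : a * b = b * a := (mem_centralizer_iff.1 (cj_cent (g := g) h'.U_comm ha) b hb).symm
      rw [e, mul_inv_cancel_right, mul_inv_cancel]; exact one_mem _)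
  rw [← c.index_eq h h'] at h3
  have hne := two_le_of_ne (c.inv.nle h' h hs')
  have e1 : (cj g⁻¹ (o2 X)).relIndex (cl V X') = (o2 X).relIndex (cj g (cl V X')) := by
    rw [← relIndex_cj g, cj_cj_inv]
  rw [e1] at hne
  have hne' := two_le_of_ne (c.nle h h' hs)
  rcases c.count h h' hs hs' with h4 | h4
  · rw [h4, one_mul] at h3
    nlinarith
  · nlinarith

end Crit

/-- **MIXED K0.** -/
theorem Fam.absurd [Finite G] {ι : Type v} [Nonempty ι] {V L Q0 : Subgroup G} {F T X : ι → Subgroup G}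
    (h : Fam V L Q0 F T X) (hX : ∀ i, NoOv (X i)) (hs : ∀ i, SM V (X i)) (h2 : ∀ i, Two V (X i)) : False := by
  obtain ⟨i, j, g, c⟩ := h.exists_crit
  have h3 := c.two_mul_le (h.pan i) (h.pan j) (hX i) (h2 i) (hs i) (hs j)
  have h4 := c.inv.two_mul_le (h.pan j) (h.pan i) (hX j) (h2 j) (hs j) (hs i)
  have e1 : (o2 (X j)).relIndex (cj g⁻¹ (cl V (X i))) = (cj g (o2 (X j))).relIndex (cl V (X i)) := by
    rw [← relIndex_cj g, cj_cj_inv]
  have e2 : (cj g⁻¹ (o2 (X i))).relIndex (cl V (X j)) = (o2 (X i)).relIndex (cj g (cl V (X j))) := by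
    rw [← relIndex_cj g, cj_cj_inv]
  rw [e1, e2] at h4
  have h5 : 0 < (o2 (X i)).relIndex (cj g (cl V (X j))) := Nat.pos_of_ne_zero index_ne_zero_of_finite
  omega

end Cfsg.Agent.Omega.NO3b.K0.Mix
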