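import Cfsg.Agent.Omega.NO3b.K0.Mix.Mutual

/-!
# MIXED K0: a mutual pair of panels

Withdrawn: the same theorem is `k0p` in `K0/Mix/Mutual.lean` (imported here).
-/
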